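import Groth.Agent.Lib.AffHull14.Kernel
import Groth.Agent.Lib.AntiAffine.Image
import Groth.Agent.Lib.AntiAffine.Hom
import Groth.Agent.Lib.AntiAffine.Prod
import Groth.Agent.Lib.AntiAffine.ProperFibre
import Groth.Agent.Lib.AlgGrp14.Core
import Groth.Agent.Lib.Chevalley.AffineQuot
import Groth.Agent.Lib.EssFree.Subgroup
import Groth.Agent.Lib.GrpSchField.Points
import Groth.Agent.Lib.NoriFGS13.FFlat

/-!
# The largest anti-affine subgroup: kernel of the affinization, images, generation
-/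

set_option autoImplicit false
set_option backward.isDefEq.respectTransparency false
set_option linter.style.haveILetI false

universe u

open CategoryTheory CategoryTheory.Limits MonoidalCategory CartesianMonoidalCategory MonObj GrpObj AlgebraicGeometry

noncomputable section

namespace GrothLib.AntMax16

variable {k : Type u} [Field k]

local notation "𝒞" => Over (Spec (CommRingCat.of k))

theorem props_of_mono {G M : 𝒞} [LocallyOfFiniteType G.hom] [QuasiCompact G.hom] (j : M ⟶ G)
    [IsClosedImmersion j.left] : LocallyOfFiniteType M.hom ∧ QuasiCompact M.hom := by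
  refine ⟨?_, ?_⟩ <;> rw [← Over.w j] <;> infer_instance

/-- An anti-affine group is commutative. -/
theorem isCommMonObj {M : 𝒞} [GrpObj M] [LocallyOfFiniteType M.hom] [QuasiCompact M.hom]
    (hM : AntiAffine.IsAntiAffine M) : IsCommMonObj M := by
  haveI := hM.connectedSpace
  have h := hM.central (𝟙 M) (snd M M) (fst M M)
  simp only [Category.comp_id] at h
  constructor
  have e : (β_ M M).hom ≫ μ[M] = snd M M * fst M M := by
    rw [Hom.mul_def]
    congr 1
  rw [e, h, Hom.mul_def, lift_fst_snd, Category.id_comp]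

/-- The kernel of the affinization is the largest anti-affine subgroup. -/
theorem exists_ant (G : 𝒞) [GrpObj G] [LocallyOfFiniteType G.hom] [QuasiCompact G.hom] :
    ∃ (K : 𝒞) (_ : GrpObj K) (i : K ⟶ G), IsMonHom i ∧ IsClosedImmersion i.left ∧
      AntiAffine.IsAntiAffine K ∧
      Set.range i.left.base = G.left.toSpecΓ.base ⁻¹' Set.range (η[G].left ≫ G.left.toSpecΓ).base ∧
      (∀ (M : 𝒞) [GrpObj M] [LocallyOfFiniteType M.hom] [QuasiCompact M.hom] (j : M ⟶ G) [IsMonHom j],
        AntiAffine.IsAntiAffine M → ∃ g : M ⟶ K, g ≫ i = j) ∧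
      ∃ (L : 𝒞) (_ : GrpObj L) (ρ : G ⟶ L), IsMonHom ρ ∧ IsAffine L.left ∧ LocallyOfFiniteType L.hom ∧
        Flat ρ.left ∧ Surjective ρ.left ∧ LocallyOfFinitePresentation ρ.left ∧ AlgGrp.IsKernel i ρ := by
  haveI : IsLocallyNoetherian G.left := LocallyOfFiniteType.isLocallyNoetherian G.hom
  haveI : QuasiSeparated G.hom := inferInstance
  haveI : CompactSpace G.left := QuasiCompact.compactSpace_of_compactSpace G.hom
  haveI : QuasiSeparatedSpace G.left := quasiSeparatedSpace_of_quasiSeparated G.hom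
  obtain ⟨hsur, hfl, hlft⟩ := AffHull14.toSpecΓ_faithfullyFlat G
  have hi := AffHull14.isHull_toHull G
  haveI := hi.affine
  obtain ⟨gH, hmon⟩ := AffHull14.exists_grpObj_hull hi
  haveI := hmon
  haveI := hlft
  obtain ⟨-, hlN, hqN, hanti⟩ := AffHull14.exists_kernel G
  let ρ : G ⟶ AffHull14.hullObj G := AffHull14.toHull G
  let N : 𝒞 := Over.mk (pullback.snd G.left.toSpecΓ (η[G].left ≫ G.left.toSpecΓ) ≫ (𝟙_ 𝒞).hom)
  have hη : η[AffHull14.hullObj G].left = η[G].left ≫ G.left.toSpecΓ := by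
    rw [← IsMonHom.one_hom ρ]; rfl
  let i : N ⟶ G := Over.homMk (pullback.fst _ _) (by
    show pullback.fst G.left.toSpecΓ (η[G].left ≫ G.left.toSpecΓ) ≫ G.hom = pullback.snd _ _ ≫ _
    rw [← Over.w ρ, ← Over.w η[G], ← Category.assoc]
    show (pullback.fst G.left.toSpecΓ _ ≫ G.left.toSpecΓ) ≫ (AffHull14.hullObj G).hom = _
    rw [pullback.condition, Category.assoc, Category.assoc]
    congr 2
    exact Over.w ρ)
  have sqS : IsPullback i.left (toUnit N).left ρ.left η[AffHull14.hullObj G].left := by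
    have h := Over.w (toUnit N)
    change (toUnit N).left ≫ 𝟙 _ = pullback.snd _ _ ≫ 𝟙 _ at h
    rw [Category.comp_id, Category.comp_id] at h
    rw [hη, h]
    exact IsPullback.of_hasPullback G.left.toSpecΓ (η[G].left ≫ G.left.toSpecΓ)
  have sqN : IsPullback i (toUnit N) ρ η[AffHull14.hullObj G] :=
    IsPullback.of_map (Over.forget _) (Over.OverMorphism.ext sqS.w) sqS
  haveI : Mono i := GrpSchField.mono_of_kernel sqN
  have hfac : ∀ (T : 𝒞) (g : T ⟶ G), g ≫ ρ = 1 → ∃ z : T ⟶ N, z ≫ i = g :=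
    fun T g hg => GrpSchField.exists_lift_of_comp_eq_one sqN g hg
  have hiρ : i ≫ ρ = 1 := GrpSchField.comp_eq_one sqN
  obtain ⟨gN, hmi⟩ := EssFree.exists_grpObj_of_mono i
    (fun T => hfac T 1 (by rw [MonObj.one_comp]))
    (fun T a b => hfac T _ (by
      rw [MonObj.mul_comp, Category.assoc, Category.assoc, hiρ, MonObj.comp_one, MonObj.comp_one, _root_.mul_one]))
    (fun T a => hfac T _ (by rw [GrpObj.inv_comp, Category.assoc, hiρ, MonObj.comp_one, inv_one]))
  haveI : IsSeparated (AffHull14.hullObj G).hom := GrpSchField.isSeparated _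
  haveI hci : IsClosedImmersion i.left := by
    haveI : IsClosedImmersion η[AffHull14.hullObj G].left := GrpSchField.unit_isClosedImmersion _
    exact MorphismProperty.of_isPullback (P := @IsClosedImmersion) sqS.flip ‹_›
  refine ⟨N, gN, i, hmi, hci, hanti, ?_, ?_, AffHull14.hullObj G, gH, ρ, hmon, hi.affine, hlft, hfl, hsur,
    ?_, sqN⟩
  · exact Scheme.Pullback.range_fst G.left.toSpecΓ (η[G].left ≫ G.left.toSpecΓ)
  · intro M _ _ _ j _ hM
    haveI : QuasiSeparated M.hom := by
      haveI : IsLocallyNoetherian M.left := LocallyOfFiniteType.isLocallyNoetherian M.hom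
      infer_instance
    refine hfac M j ?_
    rw [AntiAffine.IsAntiAffine.eq_const hM η[M] (j ≫ ρ), IsMonHom.one_hom, Hom.one_def]
  · haveI : LocallyOfFiniteType (ρ.left ≫ (AffHull14.hullObj G).hom) := by rw [Over.w ρ]; infer_instance
    haveI : LocallyOfFiniteType ρ.left := locallyOfFiniteType_of_comp ρ.left (AffHull14.hullObj G).hom
    haveI : IsLocallyNoetherian (AffHull14.hullObj G).left :=
      LocallyOfFiniteType.isLocallyNoetherian (AffHull14.hullObj G).hom
    infer_instance

/-- Points lift along surjective morphisms. -/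
theorem exists_cover {A B T : 𝒞} (f : A ⟶ B) [Surjective f.left] (t : T ⟶ B) :
    ∃ (T' : 𝒞) (c : T' ⟶ T) (a : T' ⟶ A), Surjective c.left ∧ a ≫ f = c ≫ t := by
  let T' : 𝒞 := Over.mk (pullback.fst t.left f.left ≫ T.hom)
  refine ⟨T', Over.homMk (pullback.fst t.left f.left) rfl, Over.homMk (pullback.snd t.left f.left) ?_,
    inferInstanceAs (Surjective (pullback.fst t.left f.left)), Over.OverMorphism.ext ?_⟩
  · show pullback.snd t.left f.left ≫ A.hom = pullback.fst t.left f.left ≫ T.hom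
    rw [← Over.w f, ← pullback.condition_assoc, Over.w t]
  · exact pullback.condition.symm

/-- A quotient of an anti-affine group receiving a surjection from an affine group is trivial. -/
theorem eq_one_of_affine {L Q : 𝒞} [GrpObj L] [GrpObj Q] [IsAffine L.left] [LocallyOfFiniteType L.hom]
    [LocallyOfFiniteType Q.hom] [QuasiCompact Q.hom] (hQ : AntiAffine.IsAntiAffine Q) (d : L ⟶ Q) [IsMonHom d]
    [Surjective d.left] : 𝟙 Q = 1 := by
  haveI : IsAffine Q.left := Chevalley.isAffine_of_surjective_hom d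
  haveI : IsLocallyNoetherian Q.left := LocallyOfFiniteType.isLocallyNoetherian Q.hom
  rw [AntiAffine.IsAntiAffine.eq_const hQ η[Q] (𝟙 Q), Category.comp_id, Hom.one_def]

/-- The quotient of an anti-affine group is anti-affine. -/
theorem antiAffine_quot {M Q : 𝒞} (hM : AntiAffine.IsAntiAffine M) (q : M ⟶ Q) [Flat q.left] [Surjective q.left]
    [LocallyOfFiniteType M.hom] [QuasiCompact M.hom] [LocallyOfFiniteType Q.hom] [GrpObj Q] :
    AntiAffine.IsAntiAffine Q := by
  haveI : IsSeparated Q.hom := GrpSchField.isSeparated Q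
  haveI : QuasiCompact (q.left ≫ Q.hom) := by rw [Over.w q]; infer_instance
  haveI : QuasiCompact q.left := QuasiCompact.of_comp q.left Q.hom
  haveI := NoriFGS13.isSchemeTheoreticallyDominant_of_flat q.left
  exact hM.of_injective q (q.left.app_injective ⊤)

/-- A homomorphism maps largest anti-affine subgroups onto each other. -/
theorem surjective_ant {G Q M M' : 𝒞} [GrpObj G] [GrpObj Q] [GrpObj M] [GrpObj M']
    [LocallyOfFiniteType G.hom] [QuasiCompact G.hom] [LocallyOfFiniteType Q.hom]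
    [LocallyOfFiniteType M.hom] [QuasiCompact M.hom] [LocallyOfFiniteType M'.hom] [QuasiCompact M'.hom]
    (q : G ⟶ Q) [IsMonHom q] [Surjective q.left]
    (j : M ⟶ G) [IsMonHom j]
    (hmax : ∀ (K : 𝒞) [GrpObj K] [LocallyOfFiniteType K.hom] [QuasiCompact K.hom] (i : K ⟶ G) [IsMonHom i]
      [IsClosedImmersion i.left], AntiAffine.IsAntiAffine K → ∃ g : K ⟶ M, g ≫ j = i)
    (j' : M' ⟶ Q) [IsMonHom j'] [IsClosedImmersion j'.left] (hM' : AntiAffine.IsAntiAffine M')
    (f : M ⟶ M') (hf : f ≫ j' = j ≫ q) (hM : AntiAffine.IsAntiAffine M) : Surjective f.left := by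
  haveI : Mono j' := Over.mono_of_mono_left j'
  haveI : IsMonHom f := GrpSchField.isMonHom_of_mul f (by
    rw [← cancel_mono j', Category.assoc, hf, IsMonHom.mul_hom, Category.assoc, IsMonHom.mul_hom,
      ← Category.assoc (f ⊗ₘ f), tensorHom_comp_tensorHom, hf])
  haveI := isCommMonObj hM
  haveI := isCommMonObj hM'
  have hgM : AlgGrp14.Good M := ⟨inferInstance, inferInstance⟩
  have hgM' : AlgGrp14.Good M' := ⟨inferInstance, inferInstance⟩
  obtain ⟨I, gI, cI, qI, jI, hqI, hjI, hI, -, hsI, -, hcI, hfac⟩ := AlgGrp14.exists_image hgM hgM' f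
  haveI := hqI; haveI := hjI; haveI := hsI; haveI := hcI
  obtain ⟨R, gR, cR, r, hr, hR, hflr, hsr, hpr, hkR⟩ := AlgGrp14.exists_quot hgM' jI
  haveI := hr; haveI := hflr; haveI := hsr; haveI := hpr
  obtain ⟨hR₁, hR₂⟩ := hR
  have hRa : AntiAffine.IsAntiAffine R := antiAffine_quot hM' r
  have hfr : f ≫ r = 1 := (hkR M f).1 ⟨qI, hfac⟩
  -- the preimage of `M'`
  let P : 𝒞 := Over.mk (pullback.fst q.left j'.left ≫ G.hom)
  let p : P ⟶ G := Over.homMk (pullback.fst q.left j'.left) rfl
  let s : P ⟶ M' := Over.homMk (pullback.snd q.left j'.left) (by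
    show pullback.snd q.left j'.left ≫ M'.hom = pullback.fst q.left j'.left ≫ G.hom
    rw [← Over.w q, ← Over.w j', pullback.condition_assoc])
  have hps : p ≫ q = s ≫ j' := Over.OverMorphism.ext pullback.condition
  haveI : IsClosedImmersion p.left := inferInstanceAs (IsClosedImmersion (pullback.fst q.left j'.left))
  haveI : Mono p := Over.mono_of_mono_left p
  have hpf : ∀ (T : 𝒞) (g : T ⟶ G) (y : T ⟶ M'), g ≫ q = y ≫ j' → ∃ z : T ⟶ P, z ≫ p = g := by
    intro T g y h
    exact ⟨Over.homMk (pullback.lift g.left y.left (by rw [← Over.comp_left, h, Over.comp_left])) (by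
      show pullback.lift g.left y.left _ ≫ pullback.fst q.left j'.left ≫ G.hom = T.hom
      rw [pullback.lift_fst_assoc, Over.w g]), Over.OverMorphism.ext (pullback.lift_fst _ _ _)⟩
  obtain ⟨gP, hp⟩ := EssFree.exists_grpObj_of_mono p
    (fun T => hpf T 1 1 (by rw [MonObj.one_comp, MonObj.one_comp]))
    (fun T a b => hpf T _ ((a ≫ s) * (b ≫ s)) (by
      rw [MonObj.mul_comp, MonObj.mul_comp, Category.assoc, Category.assoc, hps, Category.assoc, Category.assoc]))
    (fun T a => hpf T _ (a ≫ s)⁻¹ (by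
      rw [GrpObj.inv_comp, GrpObj.inv_comp, Category.assoc, hps, Category.assoc]))
  haveI := hp
  haveI : IsMonHom s := GrpSchField.isMonHom_of_mul s (by
    rw [← cancel_mono j', Category.assoc, ← hps, ← Category.assoc, IsMonHom.mul_hom, Category.assoc,
      IsMonHom.mul_hom, Category.assoc, IsMonHom.mul_hom, ← Category.assoc (p ⊗ₘ p), tensorHom_comp_tensorHom,
      hps, ← Category.assoc (s ⊗ₘ s), tensorHom_comp_tensorHom])
  haveI : Surjective s.left := inferInstanceAs (Surjective (pullback.snd q.left j'.left))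
  obtain ⟨hlP, hqP⟩ := props_of_mono p
  obtain ⟨KP, gKP, iP, hiP, hciP, hKP, -, -, L, gL, ρ, hρ, hLa, hLl, hρf, hρs, hρp, hρk⟩ := exists_ant P
  haveI := hiP; haveI := hciP; haveI := hρ; haveI := hρf; haveI := hρs; haveI := hρp; haveI := hLa; haveI := hLl
  obtain ⟨hlK, hqK⟩ := props_of_mono iP
  haveI : IsClosedImmersion (iP ≫ p).left := by rw [Over.comp_left]; infer_instance
  obtain ⟨g, hg⟩ := hmax KP (iP ≫ p) hKP
  have hkill : ∀ (T : 𝒞) (x : T ⟶ P), x ≫ ρ = 1 → x ≫ s ≫ r = 1 := by
    intro T x hx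
    obtain ⟨z, rfl⟩ := GrpSchField.exists_lift_of_comp_eq_one hρk x hx
    have hs : iP ≫ s = g ≫ f := by
      rw [← cancel_mono j', Category.assoc, ← hps, Category.assoc, hf, ← Category.assoc g, hg, Category.assoc]
    rw [Category.assoc, ← Category.assoc iP, hs, Category.assoc, hfr, MonObj.comp_one, MonObj.comp_one]
  obtain ⟨e, hem, he⟩ := AlgGrp14.exists_desc_hom ρ (s ≫ r) hkill
  haveI := hem
  haveI : Surjective (ρ.left ≫ e.left) := by rw [← Over.comp_left, he, Over.comp_left]; infer_instance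
  haveI : Surjective e.left := Surjective.of_comp ρ.left e.left
  have h1 : r = 1 := by rw [← Category.comp_id r, eq_one_of_affine hRa e, MonObj.comp_one]
  obtain ⟨y, hy⟩ := (hkR M' (𝟙 M')).2 (by rw [Category.id_comp, h1])
  haveI : Surjective jI.left := ⟨fun x => ⟨y.left x, by
    rw [← Scheme.Hom.comp_apply, ← Over.comp_left, hy]; rfl⟩⟩
  rw [← hfac, Over.comp_left]
  infer_instance

/-- Anti-affine generation: `G = N · M`, and `M` is the smallest such subgroup. -/
theorem ant_generates {G N A M : 𝒞} [GrpObj G] [GrpObj N] [GrpObj A] [GrpObj M] [LocallyOfFiniteType G.hom]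
    [QuasiCompact G.hom] [ConnectedSpace G.left] (i : N ⟶ G) [IsMonHom i] [IsClosedImmersion i.left]
    [IsAffine N.left] [IsProper A.hom] (q : G ⟶ A) [IsMonHom q] [Surjective q.left] (hq : AlgGrp.IsKernel i q)
    [LocallyOfFiniteType M.hom] [QuasiCompact M.hom] (j : M ⟶ G) [IsMonHom j] [IsClosedImmersion j.left]
    (hM : AntiAffine.IsAntiAffine M)
    (hmax : ∀ (K : 𝒞) [GrpObj K] [LocallyOfFiniteType K.hom] [QuasiCompact K.hom] (i : K ⟶ G) [IsMonHom i]
      [IsClosedImmersion i.left], AntiAffine.IsAntiAffine K → ∃ g : K ⟶ M, g ≫ j = i) :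
    Surjective ((i ⊗ₘ j) ≫ μ[G]).left ∧
      ∀ (H : 𝒞) [GrpObj H] (h : H ⟶ G) [IsMonHom h] [IsClosedImmersion h.left],
        Surjective ((h ⊗ₘ i) ≫ μ[G]).left → ∃ g : M ⟶ H, g ≫ h = j := by
  haveI : ConnectedSpace A.left := q.left.surjective.connectedSpace q.left.continuous
  obtain ⟨KA, gKA, iA, hiA, hciA, hKA, hrA, hAmax, -⟩ := exists_ant A
  haveI := hiA; haveI := hciA
  obtain ⟨hlA, hqA⟩ := props_of_mono iA
  haveI hsA : Surjective iA.left := ⟨fun x => by
    have hx : x ∈ Set.range iA.left.base := by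
      rw [hrA]
      let o : ↥(𝟙_ 𝒞).left := IsLocalRing.closedPoint k
      exact ⟨o, (Scheme.Hom.comp_apply _ _ o).trans (AntiAffine.toSpecΓ_eq_of_connected A.hom
        isPreconnected_univ (Set.mem_univ _) (Set.mem_univ _))⟩
    exact hx⟩
  -- surjectivity onto `A` of largest anti-affine subgroups of groups surjecting on it
  have key : ∀ (X K : 𝒞) [GrpObj X] [GrpObj K] [LocallyOfFiniteType X.hom] [QuasiCompact X.hom]
      [LocallyOfFiniteType K.hom] [QuasiCompact K.hom] (p : X ⟶ A) [IsMonHom p] [Surjective p.left]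
      (a : K ⟶ X) [IsMonHom a], AntiAffine.IsAntiAffine K →
      (∀ (K' : 𝒞) [GrpObj K'] [LocallyOfFiniteType K'.hom] [QuasiCompact K'.hom] (b : K' ⟶ X) [IsMonHom b]
        [IsClosedImmersion b.left], AntiAffine.IsAntiAffine K' → ∃ g : K' ⟶ K, g ≫ a = b) →
      Surjective (a ≫ p).left := by
    intro X K _ _ _ _ _ _ p _ _ a _ hK hKmax
    obtain ⟨f, hf⟩ := hAmax K (a ≫ p) hK
    haveI := surjective_ant p a hKmax iA hKA f hf hK
    rw [← hf, Over.comp_left]
    infer_instance
  haveI hjq : Surjective (j ≫ q).left := key G M q j hM hmax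
  have hiq : i ≫ q = 1 := GrpSchField.comp_eq_one hq
  refine ⟨⟨fun x => ?_⟩, ?_⟩
  · obtain ⟨T', c, m, hc, hcm⟩ := exists_cover (j ≫ q) q
    obtain ⟨z, hz⟩ := GrpSchField.exists_lift_of_comp_eq_one hq (c * (m ≫ j)⁻¹) (by
      rw [MonObj.mul_comp, GrpObj.inv_comp, Category.assoc, hcm, mul_inv_cancel])
    have he : lift z m ≫ (i ⊗ₘ j) ≫ μ[G] = c := by
      rw [← Category.assoc, lift_map, ← Hom.mul_def, hz, inv_mul_cancel_right]
    obtain ⟨t, ht⟩ := hc.surj x
    exact ⟨(lift z m).left t, by rw [← ht, ← Scheme.Hom.comp_apply, ← Over.comp_left, he]⟩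
  intro H _ h _ _ hH
  obtain ⟨hlH, hqH⟩ := props_of_mono h
  haveI : Surjective (h ≫ q).left := by
    have e : ((h ⊗ₘ i) ≫ μ[G]) ≫ q = fst H N ≫ h ≫ q := by
      have e₁ : (h ⊗ₘ i) ≫ μ[G] = (fst H N ≫ h) * (snd H N ≫ i) := by
        rw [Hom.mul_def, ← lift_map, lift_fst_snd, Category.id_comp]
      rw [e₁, MonObj.mul_comp, Category.assoc, Category.assoc, hiq, MonObj.comp_one, _root_.mul_one]
    haveI := hH
    haveI : Surjective (((h ⊗ₘ i) ≫ μ[G]).left ≫ q.left) := inferInstance
    haveI : Surjective ((fst H N).left ≫ (h ≫ q).left) := by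
      rw [← Over.comp_left, ← e, Over.comp_left]; infer_instance
    exact Surjective.of_comp (fst H N).left (h ≫ q).left
  obtain ⟨KH, gKH, iH, hiH, hciH, hKH, -, hHmax, -⟩ := exists_ant H
  haveI := hiH; haveI := hciH
  obtain ⟨hlKH, hqKH⟩ := props_of_mono iH
  haveI : IsClosedImmersion (iH ≫ h).left := by rw [Over.comp_left]; infer_instance
  obtain ⟨g, hg⟩ := hmax KH (iH ≫ h) hKH
  haveI hsH : Surjective (iH ≫ h ≫ q).left :=
    key H KH (h ≫ q) iH hKH fun K' _ _ _ b _ _ hb => hHmax K' b hb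
  haveI : Mono j := Over.mono_of_mono_left j
  haveI : IsMonHom g := GrpSchField.isMonHom_of_mul g (by
    rw [← cancel_mono j, Category.assoc, hg, IsMonHom.mul_hom, Category.assoc, IsMonHom.mul_hom,
      ← Category.assoc (g ⊗ₘ g), tensorHom_comp_tensorHom, hg])
  haveI := isCommMonObj hM
  haveI : IsClosedImmersion g.left := by
    haveI : IsClosedImmersion (g.left ≫ j.left) := by rw [← Over.comp_left, hg]; infer_instance
    exact IsClosedImmersion.of_comp g.left j.left
  obtain ⟨R, gR, cR, r, hr, hR, hflr, hsr, hpr, hker⟩ := AlgGrp14.exists_quot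
    (A := M) ⟨inferInstance, inferInstance⟩ g
  haveI := hr; haveI := hflr; haveI := hsr
  obtain ⟨hR₁, hR₂⟩ := hR
  -- the intersection of `M` and `N`
  let D : 𝒞 := Over.mk (pullback.fst j.left i.left ≫ M.hom)
  let dM : D ⟶ M := Over.homMk (pullback.fst j.left i.left) rfl
  haveI : IsClosedImmersion dM.left := inferInstanceAs (IsClosedImmersion (pullback.fst j.left i.left))
  haveI : Mono dM := Over.mono_of_mono_left dM
  have hd1 : dM ≫ j ≫ q = 1 := by
    let dN : D ⟶ N := Over.homMk (pullback.snd j.left i.left) (by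
      show pullback.snd j.left i.left ≫ N.hom = pullback.fst j.left i.left ≫ M.hom
      rw [← Over.w i, ← Over.w j, pullback.condition_assoc])
    have : dM ≫ j = dN ≫ i := Over.OverMorphism.ext pullback.condition
    rw [← Category.assoc, this, Category.assoc, hiq, MonObj.comp_one]
  have hDf : ∀ (T : 𝒞) (m : T ⟶ M), m ≫ j ≫ q = 1 → ∃ z : T ⟶ D, z ≫ dM = m := by
    intro T m hm
    obtain ⟨y, hy⟩ := GrpSchField.exists_lift_of_comp_eq_one hq (m ≫ j) (by rw [Category.assoc, hm])
    exact ⟨Over.homMk (pullback.lift m.left y.left (by rw [← Over.comp_left, ← hy, Over.comp_left])) (by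
      show pullback.lift m.left y.left _ ≫ pullback.fst j.left i.left ≫ M.hom = T.hom
      rw [pullback.lift_fst_assoc, Over.w m]), Over.OverMorphism.ext (pullback.lift_fst _ _ _)⟩
  obtain ⟨gD, hdM⟩ := EssFree.exists_grpObj_of_mono dM
    (fun T => hDf T 1 (by rw [MonObj.one_comp]))
    (fun T a b => hDf T _ (by
      rw [MonObj.mul_comp, Category.assoc, Category.assoc, hd1, MonObj.comp_one, MonObj.comp_one, _root_.mul_one]))
    (fun T a => hDf T _ (by rw [GrpObj.inv_comp, Category.assoc, hd1, MonObj.comp_one, inv_one]))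
  haveI := hdM
  obtain ⟨hlD, hqD⟩ := props_of_mono dM
  haveI : IsAffine D.left := by
    haveI : IsClosedImmersion (pullback.snd j.left i.left) := inferInstance
    show IsAffine (pullback j.left i.left)
    exact isAffine_of_isAffineHom (pullback.snd j.left i.left)
  haveI : Surjective (dM ≫ r).left := ⟨fun x => by
    obtain ⟨m₀, rfl⟩ := hsr.surj x
    obtain ⟨T', c, a, hc, hca⟩ := exists_cover (iH ≫ h ≫ q) (j ≫ q)
    obtain ⟨t, rfl⟩ := hc.surj m₀
    obtain ⟨z, hz⟩ := hDf T' (c * (a ≫ g)⁻¹) (by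
      rw [MonObj.mul_comp, GrpObj.inv_comp, Category.assoc, ← Category.assoc g, hg, Category.assoc, hca,
        mul_inv_cancel])
    have : z ≫ dM ≫ r = c ≫ r := by
      rw [← Category.assoc, hz, MonObj.mul_comp, GrpObj.inv_comp, (hker T' (a ≫ g)).1 ⟨a, rfl⟩, inv_one,
        _root_.mul_one]
    refine ⟨z.left t, ?_⟩
    rw [← Scheme.Hom.comp_apply, ← Scheme.Hom.comp_apply, ← Over.comp_left, ← Over.comp_left, this]⟩
  have h1 : r = 1 := by
    rw [← Category.comp_id r, eq_one_of_affine (antiAffine_quot hM r) (dM ≫ r), MonObj.comp_one]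
  obtain ⟨y, hy⟩ := (hker M (𝟙 M)).2 (by rw [Category.id_comp, h1])
  exact ⟨y ≫ iH, by rw [Category.assoc, ← hg, ← Category.assoc, hy, Category.id_comp]⟩

end GrothLib.AntMax16
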